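import Groth.Agent.RGFlatLib.EtaleFlat
import Groth.Agent.RichLib.ModFlatGlobal
import Groth.Agent.RpushLib.FlatPull
import Groth.Agent.PerfCompLib.ExtZero
import Groth.Prelude.Def_FlatFun
import Groth.Prelude.Def_QuotSh
import Groth.Prelude.Def_FGA
import Mathlib.AlgebraicGeometry.Sites.Fpqc
import Mathlib.RingTheory.Flat.FaithfullyFlat.Algebra

/-!
# Properties of module maps that are local for flat jointly surjective families of base changes
-/

set_option autoImplicit false

universe u

open CategoryTheory CategoryTheory.Limits AlgebraicGeometry Opposite TensorProduct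

noncomputable section

namespace FlatFunShLib

variable {S : Scheme.{u}}

/-- The members of an fpqc covering are flat and jointly surjective. -/
theorem exists_flat_of_mem {Y : Scheme.{u}} {R : Presieve Y} (hR : R ∈ Scheme.fpqcPrecoverage Y) (y : Y) :
    ∃ (Z : Scheme.{u}) (h : Z ⟶ Y), R h ∧ Flat h ∧ y ∈ Set.range h := by
  obtain ⟨E, rfl⟩ := Precoverage.mem_iff_exists_zeroHypercover.1 hR
  obtain ⟨h1, h2⟩ := (Scheme.ofArrows_mem_precoverage_iff _).mp E.mem₀.2
  obtain ⟨i, hi⟩ := h1 y
  exact ⟨_, E.f i, Presieve.ofArrows.mk i, h2 i, hi⟩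

/-- A stable condition, local for flat jointly surjective families, gives an fpqc sheaf. -/
theorem isSheaf_genPSp (P : Over S → Prop) (hP : ∀ ⦃T T₀ : Over S⦄ (_ : T ⟶ T₀), P T₀ → P T)
    (hloc : ∀ T : Over S, (∀ t : T.left, ∃ (T' : Over S) (g : T' ⟶ T),
      Flat g.left ∧ t ∈ Set.range g.left ∧ P T') → P T) :
    Presheaf.IsSheaf (QuotSh.J Scheme.fpqcPrecoverage S) (FlatFun.genPSp S P) := by
  rw [isSheaf_iff_isSheaf_of_type]
  intro T R hR x _
  have hR' : Sieve.overEquiv T R ∈ Scheme.fpqcPrecoverage.toGrothendieck T.left :=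
    (GrothendieckTopology.mem_over_iff _ _).1 hR
  obtain ⟨R₀, hR₀, hle⟩ := Precoverage.mem_toGrothendieck_iff_of_isStableUnderComposition.1 hR'
  have hT : P T := hloc T fun t => by
    obtain ⟨Z, h, hh, hf, ht⟩ := exists_flat_of_mem hR₀ t
    have hh' := (Sieve.overEquiv_iff R h).1 (hle _ _ hh)
    refine ⟨Over.mk (h ≫ T.hom), Over.homMk h, ?_, ?_, ?_⟩
    · exact hf
    · exact ht
    · exact (FlatFun.genPSp_nonempty_iff_of_stable P hP _).1 ⟨x (Over.homMk h) hh'⟩
  refine ⟨(FlatFun.genPSp_nonempty_of P hT).some, fun Y g hg => ?_, fun y _ => ?_⟩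
  · exact @Subsingleton.elim _ (FlatFun.genPSp_subsingleton S P _) _ _
  · exact @Subsingleton.elim _ (FlatFun.genPSp_subsingleton S P _) _ _

section stalks

variable {X Y : Scheme.{u}} (m : X ⟶ Y)

theorem faithfullyFlat_stalkMap [Flat m] (x : X) : (m.stalkMap x).hom.FaithfullyFlat := by
  algebraize [(m.stalkMap x).hom]
  haveI : IsLocalHom (algebraMap (Y.presheaf.stalk (m x)) (X.presheaf.stalk x)) :=
    inferInstanceAs (IsLocalHom (m.stalkMap x).hom)
  haveI : Module.Flat (Y.presheaf.stalk (m x)) (X.presheaf.stalk x) := Flat.stalkMap m x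
  exact Module.FaithfullyFlat.of_flat_of_isLocalHom

end stalks

section modules

variable {R R' : Type u} [CommRing R] [CommRing R'] (σ : R →+* R') (hσ : σ.FaithfullyFlat)
  {M N : ModuleCat.{u} R} (φ : M ⟶ N)

include hσ in
theorem mono_of_mono_extendScalars (h : Mono ((ModuleCat.extendScalars.{u, u, u} σ).map φ)) : Mono φ := by
  algebraize [σ]
  rw [ModuleCat.mono_iff_injective] at h ⊢
  exact (Module.FaithfullyFlat.lTensor_injective_iff_injective R R' φ.hom).1 h

include hσ in
theorem epi_of_epi_extendScalars (h : Epi ((ModuleCat.extendScalars.{u, u, u} σ).map φ)) : Epi φ := by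
  algebraize [σ]
  rw [ModuleCat.epi_iff_surjective] at h ⊢
  exact (Module.FaithfullyFlat.lTensor_surjective_iff_surjective R R' φ.hom).1 h

include hσ in
theorem eq_zero_of_extendScalars (h : (ModuleCat.extendScalars.{u, u, u} σ).map φ = 0) : φ = 0 := by
  algebraize [σ]
  ext m
  refine Module.FaithfullyFlat.tensorProduct_mk_injective (A := R) (B := R') N ?_
  have := ConcreteCategory.congr_hom h ((1 : R') ⊗ₜ[R] m)
  exact this.trans (TensorProduct.tmul_zero N (1 : R')).symm

end modules

section local_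

variable {Y : Scheme.{u}} {F G : Y.Modules} (u : F ⟶ G)

theorem eq_zero_of_stalks (h : ∀ y, (DerSch.stalkFunctor Y y).map u = 0) : u = 0 := by
  refine Scheme.Modules.hom_ext _ _ fun U => ?_
  ext s
  refine TopCat.Presheaf.section_ext (F := ⟨G.presheaf, G.isSheaf⟩) U _ _ fun y hy => ?_
  exact (TopCat.Presheaf.stalkFunctor_map_germ_apply (C := AddCommGrpCat) U y hy
      (Scheme.Modules.Hom.mapPresheaf u) s).symm.trans
    ((ConcreteCategory.congr_hom (h y) _).trans (map_zero (G.presheaf.germ U y hy).hom).symm)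

/-- A property of maps detected on stalks and descending along faithfully flat ring maps can be
checked after a flat jointly surjective family of pullbacks. -/
theorem stalk_descend (Q : ∀ {R : Type u} [CommRing R] {M N : ModuleCat.{u} R}, (M ⟶ N) → Prop)
    (hiso : ∀ {R : Type u} [CommRing R] {M N M' N' : ModuleCat.{u} R} (φ : M ⟶ N) (ψ : M' ⟶ N')
      (_ : Arrow.mk φ ≅ Arrow.mk ψ), Q φ → Q ψ)
    (hdesc : ∀ {R R' : Type u} [CommRing R] [CommRing R'] (σ : R →+* R') (_ : σ.FaithfullyFlat)
      {M N : ModuleCat.{u} R} (φ : M ⟶ N), Q ((ModuleCat.extendScalars.{u, u, u} σ).map φ) → Q φ)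
    (h : ∀ y : Y, ∃ (X : Scheme.{u}) (m : X ⟶ Y) (x : X), Flat m ∧ m x = y ∧
      Q ((DerSch.stalkFunctor X x).map ((Scheme.Modules.pullback m).map u)))
    (y : Y) : Q ((DerSch.stalkFunctor Y y).map u) := by
  obtain ⟨X, m, x, hm, rfl, hx⟩ := h y
  exact hdesc _ (faithfullyFlat_stalkMap m x) _
    (hiso _ _ (Arrow.isoMk ((KFlatLib.stalkPullIso m x).app F) ((KFlatLib.stalkPullIso m x).app G)
        ((KFlatLib.stalkPullIso m x).hom.naturality u).symm) hx)

theorem eq_zero_of_cover (h : ∀ y : Y, ∃ (X : Scheme.{u}) (m : X ⟶ Y) (x : X), Flat m ∧ m x = y ∧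
    (Scheme.Modules.pullback m).map u = 0) : u = 0 := by
  refine eq_zero_of_stalks u fun y => stalk_descend u (fun {_ _ _ _} φ => φ = 0) ?_ ?_ ?_ y
  · intro R _ M N M' N' φ ψ e hφ
    have w := e.inv.w
    have hl0 : e.inv.left ≫ φ = ψ ≫ e.inv.right := w
    have hl : (0 : _ ⟶ _) = ψ ≫ e.inv.right :=
      ((congrArg (e.inv.left ≫ ·) hφ).trans comp_zero).symm.trans hl0
    haveI : IsIso e.inv.right := Arrow.isIso_right e.inv
    exact (cancel_mono e.inv.right).1 (hl.symm.trans zero_comp.symm)
  · intro R R' _ _ σ hσ M N φ hφ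
    exact eq_zero_of_extendScalars σ hσ φ hφ
  · intro y
    obtain ⟨X, m, x, hm, hy, hz⟩ := h y
    refine ⟨X, m, x, hm, hy, ?_⟩
    rw [hz]
    exact Functor.map_zero _ _ _

theorem epi_of_cover (h : ∀ y : Y, ∃ (X : Scheme.{u}) (m : X ⟶ Y) (x : X), Flat m ∧ m x = y ∧
    Epi ((Scheme.Modules.pullback m).map u)) : Epi u := by
  refine PerfCompLib.epi_of_stalks u fun y => stalk_descend u (fun {_ _ _ _} φ => Epi φ) ?_ ?_ ?_ y
  · intro R _ M N M' N' φ ψ e hφ
    exact ((MorphismProperty.epimorphisms _).arrow_mk_iso_iff e).1 hφ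
  · intro R R' _ _ σ hσ M N φ hφ
    exact epi_of_epi_extendScalars σ hσ φ hφ
  · intro y
    obtain ⟨X, m, x, hm, hy, hz⟩ := h y
    exact ⟨X, m, x, hm, hy, inferInstance⟩

theorem mono_of_cover (h : ∀ y : Y, ∃ (X : Scheme.{u}) (m : X ⟶ Y) (x : X), Flat m ∧ m x = y ∧
    Mono ((Scheme.Modules.pullback m).map u)) : Mono u := by
  refine PerfCompLib.mono_of_stalks u fun y => stalk_descend u (fun {_ _ _ _} φ => Mono φ) ?_ ?_ ?_ y
  · intro R _ M N M' N' φ ψ e hφ
    exact ((MorphismProperty.monomorphisms _).arrow_mk_iso_iff e).1 hφ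
  · intro R R' _ _ σ hσ M N φ hφ
    exact mono_of_mono_extendScalars σ hσ φ hφ
  · intro y
    obtain ⟨X, m, x, hm, hy, hz⟩ := h y
    exact ⟨X, m, x, hm, hy, CategoryTheory.preserves_mono_of_preservesLimit _ _⟩

end local_

section family

variable {X : Scheme.{u}} (f : X ⟶ S)

theorem isPullback_XTmap {T U : Over S} (g : U ⟶ T) :
    IsPullback (PicF.XTmap f g) (PicF.XTproj f U) (PicF.XTproj f T) g.left := by
  refine IsPullback.of_right ?_ ?_ (IsPullback.of_hasPullback f T.hom)
  · rw [FGA.XTmap_fst, Over.w g]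
    exact IsPullback.of_hasPullback f U.hom
  · simp only [PicF.XTmap, pullback.map, Category.comp_id]
    exact pullback.lift_snd _ _ _

theorem flat_XTmap {T U : Over S} (g : U ⟶ T) [Flat g.left] : Flat (PicF.XTmap f g) :=
  MorphismProperty.of_isPullback (P := @Flat) (isPullback_XTmap f g).flip inferInstance

/-- Pulling back a map along `X_{T'} ⟶ X_T ⟶ X`. -/
def arrowIso {F G : X.Modules} (u : F ⟶ G) {T U : Over S} (g : U ⟶ T) :
    Arrow.mk ((Scheme.Modules.pullback (PicF.XTmap f g)).map
        ((Scheme.Modules.pullback (pullback.fst f T.hom)).map u)) ≅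
      Arrow.mk ((Scheme.Modules.pullback (pullback.fst f U.hom)).map u) :=
  Arrow.isoMk (FGA.ETiso f F g) (FGA.ETiso f G g)
    (((Scheme.Modules.pullbackComp (PicF.XTmap f g) (pullback.fst f T.hom)) ≪≫
      Scheme.Modules.pullbackCongr (FGA.XTmap_fst f g)).hom.naturality u).symm

/-- Points of `X_T` lift to a flat covering family of base changes. -/
theorem exists_lift {T : Over S} {P : Over S → Prop}
    (h : ∀ t : T.left, ∃ (T' : Over S) (g : T' ⟶ T), Flat g.left ∧ t ∈ Set.range g.left ∧ P T')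
    (y : PicF.XT f T) : ∃ (T' : Over S) (g : T' ⟶ T) (x : PicF.XT f T'),
      Flat g.left ∧ PicF.XTmap f g x = y ∧ P T' := by
  obtain ⟨T', g, hg, ⟨t', ht'⟩, hP⟩ := h (PicF.XTproj f T y)
  obtain ⟨z, hz, -⟩ := Scheme.exists_preimage_of_isPullback (isPullback_XTmap f g) y t' ht'.symm
  exact ⟨T', g, z, hg, hz, hP⟩

variable {F G : X.Modules} (u : F ⟶ G)

theorem zero_stable {T T₀ : Over S} (g : T ⟶ T₀)
    (h : (Scheme.Modules.pullback (pullback.fst f T₀.hom)).map u = 0) :
    (Scheme.Modules.pullback (pullback.fst f T.hom)).map u = 0 := by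
  have w := (arrowIso f u g).hom.w
  have hw : (FGA.ETiso f F g).hom ≫ (Scheme.Modules.pullback (pullback.fst f T.hom)).map u =
      (Scheme.Modules.pullback (PicF.XTmap f g)).map
        ((Scheme.Modules.pullback (pullback.fst f T₀.hom)).map u) ≫ (FGA.ETiso f G g).hom := w
  rw [h, Functor.map_zero, zero_comp] at hw
  exact (cancel_epi (FGA.ETiso f F g).hom).1 (hw.trans comp_zero.symm)

theorem isSheaf_zero : Presheaf.IsSheaf (QuotSh.J Scheme.fpqcPrecoverage S)
    (FlatFun.genPSp S (fun T => (Scheme.Modules.pullback (pullback.fst f T.hom)).map u = 0)) := by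
  refine isSheaf_genPSp _ (fun T T₀ g h => zero_stable f u g h) fun T h => eq_zero_of_cover _ fun y => ?_
  obtain ⟨T', g, x, hg, hx, hP⟩ := exists_lift f h y
  haveI := hg
  refine ⟨_, PicF.XTmap f g, x, flat_XTmap f g, hx, ?_⟩
  have w := (arrowIso f u g).hom.w
  have hw : (FGA.ETiso f F g).hom ≫ (Scheme.Modules.pullback (pullback.fst f T'.hom)).map u =
      (Scheme.Modules.pullback (PicF.XTmap f g)).map
        ((Scheme.Modules.pullback (pullback.fst f T.hom)).map u) ≫ (FGA.ETiso f G g).hom := w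
  rw [hP, comp_zero] at hw
  exact (cancel_mono (FGA.ETiso f G g).hom).1 (hw.symm.trans zero_comp.symm)

theorem epi_stable {T T₀ : Over S} (g : T ⟶ T₀)
    (h : Epi ((Scheme.Modules.pullback (pullback.fst f T₀.hom)).map u)) :
    Epi ((Scheme.Modules.pullback (pullback.fst f T.hom)).map u) :=
  haveI := h
  ((MorphismProperty.epimorphisms _).arrow_mk_iso_iff (arrowIso f u g)).1
    (inferInstanceAs (Epi ((Scheme.Modules.pullback (PicF.XTmap f g)).map
      ((Scheme.Modules.pullback (pullback.fst f T₀.hom)).map u))))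

theorem epi_local (T : Over S) (h : ∀ t : T.left, ∃ (T' : Over S) (g : T' ⟶ T), Flat g.left ∧
      t ∈ Set.range g.left ∧ Epi ((Scheme.Modules.pullback (pullback.fst f T'.hom)).map u)) :
    Epi ((Scheme.Modules.pullback (pullback.fst f T.hom)).map u) :=
  epi_of_cover _ fun y => by
    obtain ⟨T', g, x, hg, hx, hP⟩ := exists_lift f h y
    haveI := hg
    exact ⟨_, PicF.XTmap f g, x, flat_XTmap f g, hx,
      ((MorphismProperty.epimorphisms _).arrow_mk_iso_iff (arrowIso f u g)).2 hP⟩

theorem mono_local (T : Over S) (h : ∀ t : T.left, ∃ (T' : Over S) (g : T' ⟶ T), Flat g.left ∧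
      t ∈ Set.range g.left ∧ Mono ((Scheme.Modules.pullback (pullback.fst f T'.hom)).map u)) :
    Mono ((Scheme.Modules.pullback (pullback.fst f T.hom)).map u) :=
  mono_of_cover _ fun y => by
    obtain ⟨T', g, x, hg, hx, hP⟩ := exists_lift f h y
    haveI := hg
    exact ⟨_, PicF.XTmap f g, x, flat_XTmap f g, hx,
      ((MorphismProperty.monomorphisms _).arrow_mk_iso_iff (arrowIso f u g)).2 hP⟩

theorem mono_flat_baseChange {T T₀ : Over S} (g : T ⟶ T₀) [Flat g.left]
    (h : Mono ((Scheme.Modules.pullback (pullback.fst f T₀.hom)).map u)) :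
    Mono ((Scheme.Modules.pullback (pullback.fst f T.hom)).map u) := by
  haveI := flat_XTmap f g
  haveI := RpushLib.preservesMonomorphisms_pullback (PicF.XTmap f g)
  exact ((MorphismProperty.monomorphisms _).arrow_mk_iso_iff (arrowIso f u g)).1
    (inferInstanceAs (Mono ((Scheme.Modules.pullback (PicF.XTmap f g)).map
      ((Scheme.Modules.pullback (pullback.fst f T₀.hom)).map u))))

theorem iso_stable {T T₀ : Over S} (g : T ⟶ T₀)
    (h : IsIso ((Scheme.Modules.pullback (pullback.fst f T₀.hom)).map u)) :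
    IsIso ((Scheme.Modules.pullback (pullback.fst f T.hom)).map u) :=
  haveI := h
  ((MorphismProperty.isomorphisms _).arrow_mk_iso_iff (arrowIso f u g)).1
    (inferInstanceAs (IsIso ((Scheme.Modules.pullback (PicF.XTmap f g)).map
      ((Scheme.Modules.pullback (pullback.fst f T₀.hom)).map u))))

theorem isSheaf_epi : Presheaf.IsSheaf (QuotSh.J Scheme.fpqcPrecoverage S)
    (FlatFun.genPSp S (fun T => Epi ((Scheme.Modules.pullback (pullback.fst f T.hom)).map u))) :=
  isSheaf_genPSp _ (fun T T₀ g h => epi_stable f u g h) (epi_local f u)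

theorem isSheaf_iso : Presheaf.IsSheaf (QuotSh.J Scheme.fpqcPrecoverage S)
    (FlatFun.genPSp S (fun T => IsIso ((Scheme.Modules.pullback (pullback.fst f T.hom)).map u))) :=
  isSheaf_genPSp _ (fun T T₀ g h => iso_stable f u g h) fun T h => by
    haveI := epi_local f u T fun t => by
      obtain ⟨T', g, hg, ht, hP⟩ := h t
      exact ⟨T', g, hg, ht, inferInstance⟩
    haveI := mono_local f u T fun t => by
      obtain ⟨T', g, hg, ht, hP⟩ := h t
      exact ⟨T', g, hg, ht, inferInstance⟩
    exact isIso_of_mono_of_epi _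

theorem mono_iff (T : Over S) {ι : Type u} (Ti : ι → Over S) (g : ∀ i, Ti i ⟶ T)
    (hcov : Presieve.ofArrows (fun i => (Ti i).left) (fun i => (g i).left) ∈
      Scheme.fpqcPrecoverage T.left) :
    Mono ((Scheme.Modules.pullback (pullback.fst f T.hom)).map u) ↔
      ∀ i, Mono ((Scheme.Modules.pullback (pullback.fst f (Ti i).hom)).map u) := by
  obtain ⟨h1, h2⟩ := (Scheme.ofArrows_mem_precoverage_iff _).mp hcov.2
  refine ⟨fun h i => ?_, fun h => mono_local f u T fun t => ?_⟩
  · haveI : Flat (g i).left := h2 i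
    exact mono_flat_baseChange f u (g i) h
  · obtain ⟨i, hi⟩ := h1 t
    exact ⟨Ti i, g i, h2 i, hi, h i⟩

end family

section flat

variable {A : Type u} [CommRing A] {B : Type u} [CommRing B] [Algebra A B]
  (B' : Type u) [CommRing B'] [Algebra B B'] [Algebra A B'] [IsScalarTower A B B']
  (M : Type u) [AddCommGroup M] [Module A M] [Module B M] [IsScalarTower A B M]

/-- Flatness over a base descends along faithfully flat extensions of the acting ring. -/
theorem flat_of_baseChange [Module.FaithfullyFlat B B'] [Module.Flat A (B' ⊗[B] M)] :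
    Module.Flat A M := by
  refine Module.Flat.iff_lTensor_injective'.mpr fun I => ?_
  let φ := AlgebraTensorModule.lTensor B M I.subtype
  suffices Function.Injective φ from this
  rw [← Module.FaithfullyFlat.lTensor_injective_iff_injective B B' φ]
  let e₁ := AlgebraTensorModule.assoc A B B B' M I
  let e₂ := AlgebraTensorModule.assoc A B B B' M A
  have hc : ∀ z, e₂ (I.subtype.lTensor (B' ⊗[B] M) z) = φ.lTensor B' (e₁ z) := by
    intro z
    induction z using TensorProduct.induction_on with
    | zero => simp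
    | add a b ha hb => simp only [map_add, ha, hb]
    | tmul w i =>
      induction w using TensorProduct.induction_on with
      | zero => simp
      | add a b ha hb => simp only [add_tmul, map_add, ha, hb]
      | tmul b m => simp [e₁, e₂, φ]
  intro a b hab
  apply e₁.symm.injective
  refine Module.Flat.lTensor_preserves_injective_linearMap I.subtype Subtype.val_injective
    (e₂.injective ?_)
  rw [hc, hc, LinearEquiv.apply_symm_apply, LinearEquiv.apply_symm_apply, hab]

/-- Flatness over the base of the stalk descends along a flat morphism. -/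
theorem isFlatOverAt_of_pullback {X' X T' T : Scheme.{u}} {m : X' ⟶ X} {q' : X' ⟶ T'} {q : X ⟶ T}
    {g : T' ⟶ T} (w : m ≫ q = q' ≫ g) [Flat m] [Flat g] (M : X.Modules) (x : X')
    (h : FlatMod.IsFlatOverAt q' ((Scheme.Modules.pullback m).obj M) x) :
    FlatMod.IsFlatOverAt q M (m x) := by
  let N := (Scheme.Modules.pullback m).obj M
  let e : N.presheaf.stalk x ≃ₗ[X'.presheaf.stalk x]
      (ModuleCat.extendScalars.{u, u, u} (m.stalkMap x).hom).obj
        ((DerSch.stalkFunctor X (m x)).obj M) :=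
    ((KFlatLib.stalkPullIso m x).app M).toLinearEquiv
  have hpt : g (q' x) = q (m x) := by
    rw [← Scheme.Hom.comp_apply, ← Scheme.Hom.comp_apply, w]
  -- flat over `O_{T, t}` via `q' ≫ g`
  have h2 : FlatMod.IsFlatOverAt (q' ≫ g) N x := by
    letI := FlatMod.moduleStalkOver q' N x
    letI : Algebra (T.presheaf.stalk ((q' ≫ g) x)) (T'.presheaf.stalk (q' x)) :=
      (g.stalkMap (q' x)).hom.toAlgebra
    letI := FlatMod.moduleStalkOver (q' ≫ g) N x
    haveI : IsScalarTower (T.presheaf.stalk ((q' ≫ g) x)) (T'.presheaf.stalk (q' x))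
        (N.presheaf.stalk x) := IsScalarTower.of_algebraMap_smul fun a n => by
      change (q'.stalkMap x).hom ((g.stalkMap (q' x)).hom a) • n = ((q' ≫ g).stalkMap x).hom a • n
      rw [Scheme.Hom.stalkMap_comp q' g x]
      rfl
    haveI : Module.Flat (T'.presheaf.stalk (q' x)) (N.presheaf.stalk x) := h
    haveI : Module.Flat (T.presheaf.stalk ((q' ≫ g) x)) (T'.presheaf.stalk (q' x)) :=
      Flat.stalkMap g (q' x)
    exact Module.Flat.trans _ (T'.presheaf.stalk (q' x)) _
  rw [← w] at h2
  letI : Algebra (T.presheaf.stalk (q (m x))) (X.presheaf.stalk (m x)) :=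
    (q.stalkMap (m x)).hom.toAlgebra
  letI : Algebra (X.presheaf.stalk (m x)) (X'.presheaf.stalk x) := (m.stalkMap x).hom.toAlgebra
  letI : Algebra (T.presheaf.stalk (q (m x))) (X'.presheaf.stalk x) :=
    ((m.stalkMap x).hom.comp (q.stalkMap (m x)).hom).toAlgebra
  haveI : IsScalarTower (T.presheaf.stalk (q (m x))) (X.presheaf.stalk (m x)) (X'.presheaf.stalk x) :=
    IsScalarTower.of_algebraMap_eq fun _ => rfl
  letI := FlatMod.moduleStalkOver q M (m x)
  haveI : IsScalarTower (T.presheaf.stalk (q (m x))) (X.presheaf.stalk (m x))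
      (M.presheaf.stalk (m x)) := IsScalarTower.of_algebraMap_smul fun _ _ => rfl
  haveI : Module.FaithfullyFlat (X.presheaf.stalk (m x)) (X'.presheaf.stalk x) :=
    faithfullyFlat_stalkMap m x
  haveI : Module.Flat (T.presheaf.stalk (q (m x)))
      (X'.presheaf.stalk x ⊗[X.presheaf.stalk (m x)] M.presheaf.stalk (m x)) := by
    letI : Module (T.presheaf.stalk (q (m x))) (N.presheaf.stalk x) :=
      FlatMod.moduleStalkOver (m ≫ q) N x
    haveI : Module.Flat (T.presheaf.stalk (q (m x))) (N.presheaf.stalk x) := h2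
    let e' : N.presheaf.stalk x ≃ₗ[X'.presheaf.stalk x]
        X'.presheaf.stalk x ⊗[X.presheaf.stalk (m x)] M.presheaf.stalk (m x) := e
    let el : N.presheaf.stalk x ≃ₗ[T.presheaf.stalk (q (m x))]
        X'.presheaf.stalk x ⊗[X.presheaf.stalk (m x)] M.presheaf.stalk (m x) :=
      { e'.toAddEquiv with
        map_smul' := fun a n => by
          change e' (((m ≫ q).stalkMap x).hom a • n) = _
          rw [e'.map_smul, Scheme.Hom.stalkMap_comp m q x]
          exact (IsScalarTower.algebraMap_smul (X'.presheaf.stalk x) a _) }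
    exact Module.Flat.of_linearEquiv el.symm
  exact flat_of_baseChange (B := X.presheaf.stalk (m x)) (X'.presheaf.stalk x) _

end flat

theorem isSheaf_flat {X : Scheme.{u}} (f : X ⟶ S) (F : X.Modules) [Coh.IsQCoh F] :
    Presheaf.IsSheaf (QuotSh.J Scheme.fpqcPrecoverage S)
      (FlatFun.genPSp S (fun T => FlatMod.IsFlatOver (PicF.XTproj f T) (FGA.ET f F T))) := by
  refine isSheaf_genPSp _ (fun T T₀ g h x => ?_) fun T h y => ?_
  · haveI : Coh.IsQCoh (FGA.ET f F T₀) := KFlatLib.isQCoh_pullback _ F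
    exact (RichLib.ModFlat.isFlatOverAt_iso _ (FGA.ETiso f F g) x).1
      (RGFlatLib.isFlatOver_pullback_of_isPullback (isPullback_XTmap f g) _ h x)
  · obtain ⟨T', g, x, hg, hx, hP⟩ := exists_lift f h y
    haveI := hg
    haveI := flat_XTmap f g
    subst hx
    exact isFlatOverAt_of_pullback (isPullback_XTmap f g).w _ x
      ((RichLib.ModFlat.isFlatOverAt_iso _ (FGA.ETiso f F g) x).2 (hP x))

end FlatFunShLib
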